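import Groth.Agent.S0596
import Groth.Agent.S2045
import Groth.Agent.S0507
import Groth.Agent.S0510
import Groth.Agent.S0511
import Groth.Agent.Ega4B.GRingLoc
import Groth.Agent.Vancyc.H694.CommonEt
import Mathlib.RingTheory.AdicCompletion.Algebra
import Mathlib.RingTheory.Localization.AtPrime.Basic

/-!
# Artin approximation by étale neighbourhoods at a maximal ideal of a G-ring

`K953.EtaleApprox.exists_etale_approx`: for a G-ring `A`, a maximal ideal `m`, a finitely presented
`A`-algebra `P` and `φ : P → Â` there are an étale `A`-algebra `E`, `α : P → E` and `ψ : E → A/m^N`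
such that `ψ ∘ α` is the reduction of `φ`.
-/

set_option autoImplicit false
universe u

open IsLocalRing Groth.Agent.Hensel.Lazard

namespace K953.EtaleApprox

variable {A : Type u} [CommRing A] (m : Ideal A) [m.IsMaximal]

section Quot

variable (S : Type u) [CommRing S] [IsLocalRing S] [Algebra A S]
    [Algebra (Localization.AtPrime m) S] [IsScalarTower A (Localization.AtPrime m) S]
    [IsLocalHom (algebraMap (Localization.AtPrime m) S)]
    [Hensel.IsHenselization (Localization.AtPrime m) S]

theorem map_eq : m.map (algebraMap A S) = maximalIdeal S := by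
  rw [IsScalarTower.algebraMap_eq A (Localization.AtPrime m) S, ← Ideal.map_map,
    Localization.AtPrime.map_eq_maximalIdeal, Groth.Agent.S0507.result]

theorem pow_le_comap (n : ℕ) : m ^ n ≤ (maximalIdeal S ^ n).comap (algebraMap A S) := by
  rw [← Ideal.map_le_iff_le_comap, Ideal.map_pow, map_eq]

/-- The map `A/m^n → S/m_S^n`. -/
noncomputable def qmap (n : ℕ) : (A ⧸ m ^ n) →ₐ[A] S ⧸ maximalIdeal S ^ n :=
  Ideal.Quotient.liftₐ (m ^ n) ((Ideal.Quotient.mkₐ A (maximalIdeal S ^ n)).comp (Algebra.ofId A S)) (by
    intro a ha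
    exact Ideal.Quotient.eq_zero_iff_mem.mpr (pow_le_comap m S n ha))

theorem qmap_mk (n : ℕ) (x : A) : qmap m S n (Ideal.Quotient.mk _ x) = Ideal.Quotient.mk _ (algebraMap A S x) := rfl

theorem map_pow_eq (n : ℕ) : (maximalIdeal (Localization.AtPrime m) ^ n).map
      (algebraMap (Localization.AtPrime m) S) = maximalIdeal S ^ n := by
  rw [Ideal.map_pow, Groth.Agent.S0507.result (Localization.AtPrime m) S]

theorem qmap_bijective (n : ℕ) : Function.Bijective (qmap m S n) := by
  have h1 := Groth.Agent.S0510.result (Localization.AtPrime m) S n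
  let e := IsLocalization.AtPrime.equivQuotMaximalIdealPow m (Localization.AtPrime m) n
  have he : ∀ x : A, e (Ideal.Quotient.mk _ x) = Ideal.Quotient.mk _ (algebraMap A (Localization.AtPrime m) x) :=
    fun x => IsLocalization.AtPrime.equivQuotMaximalIdealPow_apply_mk m (Localization.AtPrime m) n x
  have hmem : ∀ z : S, z ∈ maximalIdeal S ^ n ↔ z ∈ (maximalIdeal (Localization.AtPrime m) ^ n).map
      (algebraMap (Localization.AtPrime m) S) := by
    intro z
    rw [map_pow_eq]
  refine ⟨?_, fun y => ?_⟩
  · rw [injective_iff_map_eq_zero]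
    intro x hx
    obtain ⟨x, rfl⟩ := Ideal.Quotient.mk_surjective x
    rw [qmap_mk, Ideal.Quotient.eq_zero_iff_mem, hmem,
      IsScalarTower.algebraMap_apply A (Localization.AtPrime m) S] at hx
    have h2 : Ideal.quotientMap (Ideal.map (algebraMap (Localization.AtPrime m) S)
        (maximalIdeal (Localization.AtPrime m) ^ n)) (algebraMap (Localization.AtPrime m) S) Ideal.le_comap_map
        (e (Ideal.Quotient.mk _ x)) = 0 := by
      rw [he, Ideal.quotientMap_mk]
      exact Ideal.Quotient.eq_zero_iff_mem.mpr hx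
    have h3 := (injective_iff_map_eq_zero _).mp h1.1 _ h2
    exact (injective_iff_map_eq_zero e).mp e.injective _ h3
  · obtain ⟨y, rfl⟩ := Ideal.Quotient.mk_surjective y
    obtain ⟨z, hz⟩ := h1.2 (Ideal.Quotient.mk _ y)
    obtain ⟨w, rfl⟩ := e.surjective z
    obtain ⟨x, rfl⟩ := Ideal.Quotient.mk_surjective w
    refine ⟨Ideal.Quotient.mk _ x, ?_⟩
    rw [he, Ideal.quotientMap_mk, Ideal.Quotient.eq, ← hmem,
      ← IsScalarTower.algebraMap_apply A (Localization.AtPrime m) S] at hz
    rw [qmap_mk]
    exact Ideal.Quotient.eq.mpr hz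

theorem compat {k n : ℕ} (h : k ≤ n) :
    (Ideal.Quotient.factorPow (maximalIdeal S) h).comp
      ((qmap m S n).toRingHom.comp (AdicCompletion.evalₐ m n).toRingHom) =
      (qmap m S k).toRingHom.comp (AdicCompletion.evalₐ m k).toRingHom := by
  refine RingHom.ext fun x => ?_
  obtain ⟨y, rfl⟩ := AdicCompletion.mk_surjective m A x
  change Ideal.Quotient.factorPow (maximalIdeal S) h (qmap m S n (AdicCompletion.evalₐ m n
    (AdicCompletion.mk m A y))) = qmap m S k (AdicCompletion.evalₐ m k (AdicCompletion.mk m A y))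
  rw [AdicCompletion.evalₐ_mk, AdicCompletion.evalₐ_mk, ← AdicCompletion.Ideal.mk_eq_mk m h y]
  rfl

/-- The comparison of completions. -/
noncomputable def cmap : AdicCompletion m A →+* AdicCompletion (maximalIdeal S) S :=
  AdicCompletion.liftRingHom (maximalIdeal S)
    (fun n => (qmap m S n).toRingHom.comp (AdicCompletion.evalₐ m n).toRingHom)
    (fun h => compat m S h)

theorem evalₐ_cmap (n : ℕ) (x : AdicCompletion m A) :
    AdicCompletion.evalₐ (maximalIdeal S) n (cmap m S x) = qmap m S n (AdicCompletion.evalₐ m n x) :=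
  AdicCompletion.evalₐ_liftRingHom (maximalIdeal S)
    (fun n => (qmap m S n).toRingHom.comp (AdicCompletion.evalₐ m n).toRingHom)
    (fun h => compat m S h) n x

end Quot

/-- Approximation of a map to the completion of a henselian G-ring, with a congruence. -/
theorem exists_approx_mod {R B : Type u} [CommRing R]
    [HenselianLocalRing R] (hG : CAlg.IsGRing R) [CommRing B] [Algebra A R] [Algebra A B]
    [Algebra.FinitePresentation A B]
    (b : B →+* AdicCompletion (maximalIdeal R) R)
    (hb : b.comp (algebraMap A B) = (algebraMap R (AdicCompletion (maximalIdeal R) R)).comp (algebraMap A R))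
    (N : ℕ) :
    ∃ b' : B →ₐ[A] R, ∀ x, Ideal.Quotient.mk (maximalIdeal R ^ N) (b' x) =
      AdicCompletion.evalₐ (maximalIdeal R) N (b x) := by
  have hfp : Algebra.FinitePresentation A B := inferInstance
  obtain ⟨n, f, hf, hker⟩ := hfp
  obtain ⟨s, hs⟩ := hker
  let Rh := AdicCompletion (maximalIdeal R) R
  let F : Fin s.card → MvPolynomial (Fin n) R := fun j =>
    MvPolynomial.map (algebraMap A R) (s.equivFin.symm j).1
  obtain ⟨x, hx, hxN⟩ := Groth.Agent.S0596.result R hG n s.card F (fun i => b (f (MvPolynomial.X i))) (by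
    intro j
    have h1 : (s.equivFin.symm j).1 ∈ RingHom.ker f.toRingHom := by
      rw [← hs]
      exact Ideal.subset_span (s.equivFin.symm j).2
    have h2 : ∀ P : MvPolynomial (Fin n) A, MvPolynomial.eval (fun i => b (f (MvPolynomial.X i)))
        (MvPolynomial.map (algebraMap R Rh) (MvPolynomial.map (algebraMap A R) P)) = b (f P) := by
      intro P
      rw [MvPolynomial.map_map, MvPolynomial.eval_map]
      have h3 : MvPolynomial.eval₂Hom ((algebraMap R Rh).comp (algebraMap A R))
          (fun i => b (f (MvPolynomial.X i))) = b.comp f.toRingHom := by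
        refine MvPolynomial.ringHom_ext ?_ ?_
        · intro r
          simp only [MvPolynomial.coe_eval₂Hom, MvPolynomial.eval₂_C]
          rw [← hb]
          simp only [RingHom.comp_apply]
          change b _ = b (f (MvPolynomial.C r))
          rw [← MvPolynomial.algebraMap_eq, AlgHom.commutes]
        · intro i
          simp only [MvPolynomial.coe_eval₂Hom, MvPolynomial.eval₂_X]
          rfl
      exact RingHom.congr_fun h3 P
    rw [h2]
    change f _ = 0 at h1
    rw [h1, map_zero]) N
  let g : MvPolynomial (Fin n) A →ₐ[A] R := MvPolynomial.aeval x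
  have hg : ∀ P ∈ RingHom.ker f.toRingHom, g P = 0 := by
    intro P hP
    have h1 : RingHom.ker f.toRingHom ≤ RingHom.ker g.toRingHom := by
      rw [← hs, Ideal.span_le]
      intro Q hQ
      have h2 := hx (s.equivFin ⟨Q, hQ⟩)
      simp only [F, Equiv.symm_apply_apply] at h2
      rw [MvPolynomial.eval_map] at h2
      change MvPolynomial.aeval x Q = 0
      rw [MvPolynomial.aeval_def]
      exact h2
    exact h1 hP
  let e := Ideal.quotientKerAlgEquivOfSurjective hf
  let b' : B →ₐ[A] R := (Ideal.Quotient.liftₐ (RingHom.ker f) g hg).comp e.symm.toAlgHom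
  have hb' : ∀ P, b' (f P) = g P := by
    intro P
    have h1 : e.symm (f P) = Ideal.Quotient.mk _ P := by
      rw [AlgEquiv.symm_apply_eq]
      rfl
    change (Ideal.Quotient.liftₐ (RingHom.ker f) g hg) (e.symm (f P)) = g P
    rw [h1]
    rfl
  refine ⟨b', ?_⟩
  have key : ((Ideal.Quotient.mk (maximalIdeal R ^ N)).comp b'.toRingHom).comp f.toRingHom =
      ((AdicCompletion.evalₐ (maximalIdeal R) N).toRingHom.comp b).comp f.toRingHom := by
    refine MvPolynomial.ringHom_ext ?_ ?_
    · intro r
      have h1 : f (MvPolynomial.C r) = algebraMap A B r := by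
        rw [← MvPolynomial.algebraMap_eq, AlgHom.commutes]
      change Ideal.Quotient.mk (maximalIdeal R ^ N) (b' (f (MvPolynomial.C r))) =
        AdicCompletion.evalₐ (maximalIdeal R) N (b (f (MvPolynomial.C r)))
      rw [h1, b'.commutes]
      have h2 := RingHom.congr_fun hb r
      simp only [RingHom.comp_apply] at h2
      rw [h2]
      exact ((AdicCompletion.evalₐ (maximalIdeal R) N).commutes (algebraMap A R r)).symm
    · intro i
      change Ideal.Quotient.mk (maximalIdeal R ^ N) (b' (f (MvPolynomial.X i))) =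
        AdicCompletion.evalₐ (maximalIdeal R) N (b (f (MvPolynomial.X i)))
      rw [hb']
      have h1 : g (MvPolynomial.X i) = x i := MvPolynomial.aeval_X x i
      rw [h1]
      have h2 : AdicCompletion.evalₐ (maximalIdeal R) N (algebraMap R Rh (x i)) =
        Ideal.Quotient.mk (maximalIdeal R ^ N) (x i) :=
          (AdicCompletion.evalₐ (maximalIdeal R) N).commutes (x i)
      rw [← h2, eq_comm, ← sub_eq_zero, ← map_sub]
      have h3 : (maximalIdeal R ^ N).map (algebraMap R Rh) ≤
          RingHom.ker (AdicCompletion.evalₐ (maximalIdeal R) N).toRingHom := by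
        rw [Ideal.map_le_iff_le_comap]
        intro y hy
        rw [Ideal.mem_comap, RingHom.mem_ker]
        change AdicCompletion.evalₐ (maximalIdeal R) N (algebraMap R Rh y) = 0
        rw [AlgHom.commutes]
        exact Ideal.Quotient.eq_zero_iff_mem.mpr hy
      exact h3 (hxN i)
  intro y
  obtain ⟨P, rfl⟩ := hf y
  exact RingHom.congr_fun key P

/-- Artin approximation by étale neighbourhoods. -/
theorem exists_etale_approx (hG : CAlg.IsGRing A) {B : Type u} [CommRing B] [Algebra A B]
    [Algebra.FinitePresentation A B] (φ : B →ₐ[A] AdicCompletion m A) (N : ℕ) :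
    ∃ (E : Type u) (_ : CommRing E) (_ : Algebra A E) (_ : Algebra.Etale A E)
      (α : B →ₐ[A] E) (ψ : E →ₐ[A] A ⧸ m ^ N),
      ψ.comp α = (AdicCompletion.evalₐ m N).comp φ := by
  obtain ⟨S, _, _, _, _, _, _, hH, hL, -⟩ := Groth.Agent.Vancyc.H694.CommonEt.exists_hull_localization m
  have hGL : CAlg.IsGRing (Localization.AtPrime m) :=
    Groth.Agent.Ega4B.GRingLoc.isGRing_of_isLocalization A (Localization.AtPrime m) m.primeCompl hG
  have hN : IsNoetherianRing A := hG.1
  have hNL : IsNoetherianRing (Localization.AtPrime m) := hGL.1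
  have hGS : CAlg.IsGRing S := Groth.Agent.S2045.result hGL
  have hens : HenselianLocalRing S := hH.henselian
  obtain ⟨b', hb'⟩ := exists_approx_mod hGS ((cmap m S).comp φ.toRingHom) (by
    refine RingHom.ext fun r => ?_
    apply AdicCompletion.ext_evalₐ
    intro n
    change AdicCompletion.evalₐ (maximalIdeal S) n (cmap m S (φ (algebraMap A B r))) = 
      AdicCompletion.evalₐ (maximalIdeal S) n (algebraMap S _ (algebraMap A S r))
    rw [evalₐ_cmap, φ.commutes, AlgHom.commutes, AlgHom.commutes, AlgHom.commutes]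
    rfl) N
  obtain ⟨E, _, _, _, α, χ, hχ⟩ := hL B b'
  let e : (A ⧸ m ^ N) ≃ₐ[A] (S ⧸ maximalIdeal S ^ N) := AlgEquiv.ofBijective (qmap m S N) (qmap_bijective m S N)
  refine ⟨E, inferInstance, inferInstance, inferInstance, α,
    e.symm.toAlgHom.comp ((Ideal.Quotient.mkₐ A (maximalIdeal S ^ N)).comp χ), ?_⟩
  ext x
  change e.symm (Ideal.Quotient.mk _ (χ (α x))) = AdicCompletion.evalₐ m N (φ x)
  rw [AlgEquiv.symm_apply_eq]
  have h1 : χ (α x) = b' x := congr($hχ x)
  rw [h1, hb']
  exact evalₐ_cmap m S N (φ x)

end K953.EtaleApprox
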