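import Mathlib.Algebra.Category.CommAlgCat.Basic
import Mathlib.CategoryTheory.Limits.Preserves.Filtered
import Mathlib.CategoryTheory.Limits.Types.Filtered
import Mathlib.RingTheory.FiniteType
import Mathlib.RingTheory.Adjoin.FG
import Mathlib.Data.Finset.Lattice.Basic

/-!
# A functor preserving filtered colimits is determined by finite type subalgebras

`K953.FGColim.exists_adjoin`: if `F : CommAlgCat A ⥤ Type u` preserves filtered colimits then each
element of `F(T)` comes from `F` of a finitely generated `A`-subalgebra of `T`.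
-/

set_option autoImplicit false
universe u

open CategoryTheory CategoryTheory.Limits

namespace K953.FGColim

variable (A T : Type u) [CommRing A] [CommRing T] [Algebra A T]

/-- The finitely generated subalgebras of `T`, indexed by the finite subsets. -/
def fn : Finset T ⥤ CommAlgCat.{u} A where
  obj s := CommAlgCat.of A (Algebra.adjoin A (s : Set T))
  map {s t} h := CommAlgCat.ofHom (Subalgebra.inclusion
    (Algebra.adjoin_mono (by exact_mod_cast leOfHom h)))
  map_id s := by
    ext x
    rfl
  map_comp {s t r} f g := by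
    ext x
    rfl

/-- The cocone with point `T`. -/
def cc : Cocone (fn A T) where
  pt := CommAlgCat.of A T
  ι :=
    { app := fun s => CommAlgCat.ofHom (Algebra.adjoin A (s : Set T)).val
      naturality := by
        intro s t h
        ext x
        rfl }

variable {A T}

/-- The class of `x` at the stage `s`. -/
def el (s : Finset T) (x : T) (h : x ∈ Algebra.adjoin A (s : Set T)) : (fn A T).obj s := (⟨x, h⟩ : Algebra.adjoin A (s : Set T))

theorem app_eq (c : Cocone (fn A T)) (s t : Finset T) (x : T) (hs : x ∈ Algebra.adjoin A (s : Set T))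
    (ht : x ∈ Algebra.adjoin A (t : Set T)) : (c.ι.app s).hom (⟨x, hs⟩ : Algebra.adjoin A (s : Set T)) =
      (c.ι.app t).hom (⟨x, ht⟩ : Algebra.adjoin A (t : Set T)) := by
  classical
  have h1 := c.w (homOfLE (show s ≤ s ∪ t from Finset.subset_union_left))
  have h2 := c.w (homOfLE (show t ≤ s ∪ t from Finset.subset_union_right))
  rw [← h1, ← h2]
  rfl

theorem mem_self {s : Finset T} {x : T} (h : x ∈ s) : x ∈ Algebra.adjoin A (s : Set T) :=
  Algebra.subset_adjoin (by exact_mod_cast h)

/-- The underlying function of the map out of the colimit. -/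
def dfun (c : Cocone (fn A T)) (x : T) : c.pt :=
  (c.ι.app {x}).hom (⟨x, mem_self (Finset.mem_singleton_self x)⟩ : Algebra.adjoin A (({x} : Finset T) : Set T))

theorem dfun_eq (c : Cocone (fn A T)) (s : Finset T) (x : T) (hs : x ∈ Algebra.adjoin A (s : Set T)) :
    dfun c x = (c.ι.app s).hom (⟨x, hs⟩ : Algebra.adjoin A (s : Set T)) :=
  app_eq c _ _ _ _ _

/-- The map out of the colimit. -/
def dhom (c : Cocone (fn A T)) : T →ₐ[A] c.pt where
  toFun := dfun c
  map_one' := by
    rw [dfun_eq c ∅ 1 (one_mem _)]
    exact map_one (c.ι.app ∅).hom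
  map_zero' := by
    rw [dfun_eq c ∅ 0 (zero_mem _)]
    exact map_zero (c.ι.app ∅).hom
  map_mul' x y := by
    classical
    have hx : x ∈ Algebra.adjoin A (({x, y} : Finset T) : Set T) := mem_self (by simp)
    have hy : y ∈ Algebra.adjoin A (({x, y} : Finset T) : Set T) := mem_self (by simp)
    rw [dfun_eq c {x, y} x hx, dfun_eq c {x, y} y hy, dfun_eq c {x, y} (x * y) (mul_mem hx hy)]
    exact map_mul (c.ι.app {x, y}).hom (⟨x, hx⟩ : Algebra.adjoin A (({x, y} : Finset T) : Set T)) ⟨y, hy⟩
  map_add' x y := by
    classical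
    have hx : x ∈ Algebra.adjoin A (({x, y} : Finset T) : Set T) := mem_self (by simp)
    have hy : y ∈ Algebra.adjoin A (({x, y} : Finset T) : Set T) := mem_self (by simp)
    rw [dfun_eq c {x, y} x hx, dfun_eq c {x, y} y hy, dfun_eq c {x, y} (x + y) (add_mem hx hy)]
    exact map_add (c.ι.app {x, y}).hom (⟨x, hx⟩ : Algebra.adjoin A (({x, y} : Finset T) : Set T)) ⟨y, hy⟩
  commutes' r := by
    change dfun c _ = _
    rw [dfun_eq c ∅ (algebraMap A T r) (Subalgebra.algebraMap_mem _ r)]
    exact (c.ι.app ∅).hom.commutes r

/-- `T` is the colimit of its finitely generated subalgebras. -/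
def isColimit : IsColimit (cc A T) where
  desc c := CommAlgCat.ofHom (dhom c)
  fac c s := by
    ext x
    exact dfun_eq c s x.1 x.2
  uniq c m hm := by
    ext x
    have h := hm {x}
    have h2 := congr($(h).hom (⟨x, mem_self (Finset.mem_singleton_self x)⟩ :
      Algebra.adjoin A (({x} : Finset T) : Set T)))
    exact h2

/-- An element of `F(T)` comes from a finitely generated subalgebra. -/
theorem exists_adjoin (F : CommAlgCat.{u} A ⥤ Type u) [PreservesFilteredColimits F]
    (ξ : F.obj (CommAlgCat.of A T)) :
    ∃ (s : Finset T) (η : F.obj (CommAlgCat.of A (Algebra.adjoin A (s : Set T)))),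
      F.map (CommAlgCat.ofHom (Algebra.adjoin A (s : Set T)).val) η = ξ := by
  classical
  have h := isColimitOfPreserves F (isColimit (A := A) (T := T))
  obtain ⟨s, η, hη⟩ := Types.jointly_surjective _ h ξ
  exact ⟨s, η, hη⟩

end K953.FGColim
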